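import Cfsg.Agent.Spor.ThLA1.D0

set_option autoImplicit false
set_option maxRecDepth 100000000
set_option Elab.async false

namespace Cfsg.Agent.Spor.ThLA1

theorem ok0 : Net.okb 1 n0 = true := by decide +kernel

theorem ok1 : Net.okb 1 n1 = true := by decide +kernel

theorem ok2 : Net.okb 1 n2 = true := by decide +kernel

theorem ok3 : Net.okb 1 n3 = true := by decide +kernel

theorem ok4 : Net.okb 1 n4 = true := by decide +kernel

theorem ok5 : Net.okb 1 n5 = true := by decide +kernel

theorem rel0 : T.rel 1 [1, 1] 0 1 = true := by decide +kernel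

theorem rel1 : T.rel 1 [2, 2] 0 1 = true := by decide +kernel

theorem rel2 : T.rel 1 [3, 3] 0 1 = true := by decide +kernel

theorem rel3 : T.rel 1 [4, 4] 0 1 = true := by decide +kernel

theorem rel4 : T.rel 1 [5, 5] 0 1 = true := by decide +kernel

theorem rel5 : T.rel 1 [2, 1, 2, 1, 2, 1] 0 1 = true := by decide +kernel

theorem rel6 : T.rel 1 [5, 1, 5, 1] 0 1 = true := by decide +kernel

theorem rel7 : T.rel 1 [3, 2, 3, 2, 3, 2] 0 1 = true := by decide +kernel

theorem rel8 : T.rel 1 [4, 2, 4, 2] 0 1 = true := by decide +kernel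

theorem rel9 : T.rel 1 [5, 2, 5, 2] 0 1 = true := by decide +kernel

theorem rel10 : T.rel 1 [9, 10, 9, 10, 9, 10, 9, 10, 1] 0 1 = true := by decide +kernel

theorem rel11 : T.rel 1 [5, 3, 5, 3] 0 1 = true := by decide +kernel

theorem rel12 : T.rel 1 [5, 4, 5, 4, 5, 4] 0 1 = true := by decide +kernel

theorem rel13 : T.rel 1 [5, 4, 3, 2, 5, 4, 3, 2, 5, 4, 3, 2, 5, 4, 3, 2, 5, 4, 3, 2, 5, 4, 3, 2, 5, 4, 3, 2, 5, 4, 3, 2] 0 1 = true := by decide +kernel

theorem rel14 : T.rel 1 [6, 6, 6, 6, 6, 6, 6] 0 1 = true := by decide +kernel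

theorem rel15 : T.rel 1 [1, 6, 7, 12] 0 1 = true := by decide +kernel

theorem rel16 : T.rel 1 [2, 6, 8, 12] 0 1 = true := by decide +kernel

theorem rel17 : T.rel 1 [3, 6, 9, 12] 0 1 = true := by decide +kernel

theorem rel18 : T.rel 1 [4, 6, 4, 6] 0 1 = true := by decide +kernel

theorem rel19 : T.rel 1 [6, 6, 6, 11, 12, 12, 5, 12, 11] 0 1 = true := by decide +kernel

theorem rel20 : T.rel 1 [8, 7, 2, 1] 0 1 = true := by decide +kernel

theorem rel21 : T.rel 1 [9, 7, 3, 1] 0 1 = true := by decide +kernel

theorem rel22 : T.rel 1 [10, 7, 4, 1] 0 1 = true := by decide +kernel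

theorem rel23 : T.rel 1 [11, 7, 5, 1] 0 1 = true := by decide +kernel

theorem rel24 : T.rel 1 [12, 7, 6, 1] 0 1 = true := by decide +kernel

theorem rel25 : T.rel 1 [9, 8, 3, 2] 0 1 = true := by decide +kernel

theorem rel26 : T.rel 1 [10, 8, 4, 2] 0 1 = true := by decide +kernel

theorem rel27 : T.rel 1 [11, 8, 5, 2] 0 1 = true := by decide +kernel

theorem rel28 : T.rel 1 [12, 8, 6, 2] 0 1 = true := by decide +kernel

theorem rel29 : T.rel 1 [10, 9, 4, 3] 0 1 = true := by decide +kernel

theorem rel30 : T.rel 1 [11, 9, 5, 3] 0 1 = true := by decide +kernel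

theorem rel31 : T.rel 1 [12, 9, 6, 3] 0 1 = true := by decide +kernel

theorem rel32 : T.rel 1 [11, 10, 5, 4] 0 1 = true := by decide +kernel

theorem rel33 : T.rel 1 [12, 10, 6, 4] 0 1 = true := by decide +kernel

theorem rel34 : T.rel 1 [12, 11, 6, 5] 0 1 = true := by decide +kernel

theorem hcov : T.treeCov (ones 1) L 1 = true := by decide +kernel

theorem hg : lall (fun z => band (memL L z) (band (sub (ones 1) (T.let z).cl) (T.closed (ones 1) z))) gs = true := by decide +kernel

theorem hivk : ivOk (2 * 0) EX IV = true := by decide +kernel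

theorem hrt : RT.ok (2 * 0) EX RL = true := by decide +kernel

theorem hdefs : defs F 16 = true := by decide +kernel

noncomputable def st0_l : List Nat := [nat_lit 0x1, nat_lit 0x801, nat_lit 0x1001, nat_lit 0x1801, nat_lit 0x80000100008403, nat_lit 0x80001180008403, nat_lit 0x48000ac0000200003000048000ac06, nat_lit 0x80001680000403, nat_lit 0x170000ac02, nat_lit 0x170000a402, nat_lit 0x2801, nat_lit 0xa0000200008403, nat_lit 0x4000198000d803, nat_lit 0x1b8000c000048000390001b8000c006, nat_lit 0x340001d80008403, nat_lit 0x1e00009402, nat_lit 0x1e00001002, nat_lit 0xc0000300008403, nat_lit 0xc0001380008403, nat_lit 0x60002000010803, nat_lit 0x60001f00010803, nat_lit 0x10c00082000260002480010c00082000260000680011809, nat_lit 0x260002500011403, nat_lit 0x80013402, nat_lit 0x3801, nat_lit 0xe0002780003c03, nat_lit 0x290000380009c000500002900003806, nat_lit 0x780015402, nat_lit 0x4001, nat_lit 0x100002b80004403, nat_lit 0x2d000040000ac000580002d00004006, nat_lit 0x880017402, nat_lit 0x4801, nat_lit 0x5001, nat_lit 0x180000a00018403,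 nat_lit 0x180003180018403, nat_lit 0xc80019c00026000150000c80019c06, nat_lit 0x180003480004c03, nat_lit 0x3500019c02, nat_lit 0x3500019402, nat_lit 0x6801, nat_lit 0x1a0000b00004803, nat_lit 0x1a0000b00018403, nat_lit 0x730003a0001cc000e8000730003a0001cc07, nat_lit 0x700003b80004c03, nat_lit 0x3b0001d402, nat_lit 0x3c00005802, nat_lit 0x1b4000f60007b0003d8001b8000f80006f0003d0001e809, nat_lit 0x98001fc02, nat_lit 0x7001, nat_lit 0x1c0004080007403, nat_lit 0x4200007000100000820004200007006, nat_lit 0xe80021c02, nat_lit 0x1e0004080007c03, nat_lit 0x810000f80022c03, nat_lit 0x1e000468000780011a0001e0004680007807, nat_lit 0xf80023c02]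
theorem st0 : band (steps F IV RT base st0_l 16) (Nat.beq (Nat.add 16 (llen st0_l)) 73) = true := by decide +kernel

theorem ep0a : T.treePath [] (Nat.shiftLeft 1 0) 1 = true := by decide +kernel

theorem ep0b : T.treePath [] (Nat.shiftLeft 1 0) 1 = true := by decide +kernel

theorem ep0c : band (lall (fun z => Nat.ble z 255) ([] ++ 1 :: [])) (concl F IV 73 0x13801 (encA ([] ++ 1 :: []) 0)) = true := by decide +kernel

theorem ep0d : band (Rule.ok (2 * 0) EX [] ⟨lapp [] [], [], 0, false⟩) (band (lall (memL L) []) (lall (memL L) [])) = true := by decide +kernel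

theorem cov1 : T.cover 1 [(Nat.shiftLeft 1 0)] = true := by decide +kernel

theorem tl1 : Nat.beq (T.let 1).tt 0 = true := by decide +kernel

theorem ep1a : T.treePath [] (Nat.shiftLeft 1 0) 1 = true := by decide +kernel

theorem ep1b : T.treePath [] (Nat.shiftLeft 1 0) 1 = true := by decide +kernel

theorem ep1c : band (lall (fun z => Nat.ble z 255) ([] ++ 2 :: [])) (concl F IV 73 0x15801 (encA ([] ++ 2 :: []) 0)) = true := by decide +kernel

theorem ep1d : band (Rule.ok (2 * 0) EX [] ⟨lapp [] [], [], 0, false⟩) (band (lall (memL L) []) (lall (memL L) [])) = true := by decide +kernel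

theorem cov2 : T.cover 2 [(Nat.shiftLeft 1 0)] = true := by decide +kernel

theorem tl2 : Nat.beq (T.let 2).tt 0 = true := by decide +kernel

theorem ep2a : T.treePath [] (Nat.shiftLeft 1 0) 1 = true := by decide +kernel

theorem ep2b : T.treePath [] (Nat.shiftLeft 1 0) 1 = true := by decide +kernel

theorem ep2c : band (lall (fun z => Nat.ble z 255) ([] ++ 3 :: [])) (concl F IV 73 0x17801 (encA ([] ++ 3 :: []) 0)) = true := by decide +kernel

theorem ep2d : band (Rule.ok (2 * 0) EX [] ⟨lapp [] [], [], 0, false⟩) (band (lall (memL L) []) (lall (memL L) [])) = true := by decide +kernel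

theorem cov3 : T.cover 3 [(Nat.shiftLeft 1 0)] = true := by decide +kernel

theorem tl3 : Nat.beq (T.let 3).tt 0 = true := by decide +kernel

theorem ep3a : T.treePath [] (Nat.shiftLeft 1 0) 1 = true := by decide +kernel

theorem ep3b : T.treePath [] (Nat.shiftLeft 1 0) 1 = true := by decide +kernel

theorem ep3c : band (lall (fun z => Nat.ble z 255) ([] ++ 4 :: [])) (concl F IV 73 0x20001 (encA ([] ++ 4 :: []) 0)) = true := by decide +kernel

theorem ep3d : band (Rule.ok (2 * 0) EX [] ⟨lapp [] [], [], 0, false⟩) (band (lall (memL L) []) (lall (memL L) [])) = true := by decide +kernel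

theorem cov4 : T.cover 4 [(Nat.shiftLeft 1 0)] = true := by decide +kernel

theorem tl4 : Nat.beq (T.let 4).tt 0 = true := by decide +kernel

theorem ep4a : T.treePath [] (Nat.shiftLeft 1 0) 1 = true := by decide +kernel

theorem ep4b : T.treePath [] (Nat.shiftLeft 1 0) 1 = true := by decide +kernel

theorem ep4c : band (lall (fun z => Nat.ble z 255) ([] ++ 5 :: [])) (concl F IV 73 0x22001 (encA ([] ++ 5 :: []) 0)) = true := by decide +kernel

theorem ep4d : band (Rule.ok (2 * 0) EX [] ⟨lapp [] [], [], 0, false⟩) (band (lall (memL L) []) (lall (memL L) [])) = true := by decide +kernel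

theorem cov5 : T.cover 5 [(Nat.shiftLeft 1 0)] = true := by decide +kernel

theorem tl5 : Nat.beq (T.let 5).tt 0 = true := by decide +kernel

theorem ep5a : T.treePath [] (Nat.shiftLeft 1 0) 1 = true := by decide +kernel

theorem ep5b : T.treePath [] (Nat.shiftLeft 1 0) 1 = true := by decide +kernel

theorem ep5c : band (lall (fun z => Nat.ble z 255) ([] ++ 6 :: [])) (concl F IV 73 0x24001 (encA ([] ++ 6 :: []) 0)) = true := by decide +kernel

theorem ep5d : band (Rule.ok (2 * 0) EX [] ⟨lapp [] [], [], 0, false⟩) (band (lall (memL L) []) (lall (memL L) [])) = true := by decide +kernel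

theorem cov6 : T.cover 6 [(Nat.shiftLeft 1 0)] = true := by decide +kernel

theorem tl6 : Nat.beq (T.let 6).tt 0 = true := by decide +kernel

theorem rot7_1 : T.rot 7 [1] (sel (ones 1) ip7 1) = true := by decide +kernel

theorem rot7_1r : band (Rule.ok (2 * 0) EX RL ⟨7 :: [1], [], 35, false⟩) (lall (memL L) [1]) = true := by decide +kernel

theorem cov7 : T.cover 7 [(sel (ones 1) ip7 1)] = true := by decide +kernel

theorem tl7 : Nat.beq (T.let 7).tt 0 = true := by decide +kernel

theorem rot8_1 : T.rot 8 [2] (sel (ones 1) ip8 1) = true := by decide +kernel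

theorem rot8_1r : band (Rule.ok (2 * 0) EX RL ⟨8 :: [2], [], 35, false⟩) (lall (memL L) [2]) = true := by decide +kernel

theorem cov8 : T.cover 8 [(sel (ones 1) ip8 1)] = true := by decide +kernel

theorem tl8 : Nat.beq (T.let 8).tt 0 = true := by decide +kernel

theorem rot9_1 : T.rot 9 [3] (sel (ones 1) ip9 1) = true := by decide +kernel

theorem rot9_1r : band (Rule.ok (2 * 0) EX RL ⟨9 :: [3], [], 35, false⟩) (lall (memL L) [3]) = true := by decide +kernel

theorem cov9 : T.cover 9 [(sel (ones 1) ip9 1)] = true := by decide +kernel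

theorem tl9 : Nat.beq (T.let 9).tt 0 = true := by decide +kernel

theorem rot10_1 : T.rot 10 [4] (sel (ones 1) ip10 1) = true := by decide +kernel

theorem rot10_1r : band (Rule.ok (2 * 0) EX RL ⟨10 :: [4], [], 35, false⟩) (lall (memL L) [4]) = true := by decide +kernel

theorem cov10 : T.cover 10 [(sel (ones 1) ip10 1)] = true := by decide +kernel

theorem tl10 : Nat.beq (T.let 10).tt 0 = true := by decide +kernel

theorem rot11_1 : T.rot 11 [5] (sel (ones 1) ip11 1) = true := by decide +kernel

theorem rot11_1r : band (Rule.ok (2 * 0) EX RL ⟨11 :: [5], [], 35, false⟩) (lall (memL L) [5]) = true := by decide +kernel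

theorem cov11 : T.cover 11 [(sel (ones 1) ip11 1)] = true := by decide +kernel

theorem tl11 : Nat.beq (T.let 11).tt 0 = true := by decide +kernel

theorem rot12_1 : T.rot 12 [6] (sel (ones 1) ip12 1) = true := by decide +kernel

theorem rot12_1r : band (Rule.ok (2 * 0) EX RL ⟨12 :: [6], [], 35, false⟩) (lall (memL L) [6]) = true := by decide +kernel

theorem cov12 : T.cover 12 [(sel (ones 1) ip12 1)] = true := by decide +kernel

theorem tl12 : Nat.beq (T.let 12).tt 0 = true := by decide +kernel

end Cfsg.Agent.Spor.ThLA1
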