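import Cfsg.Agent.Spor.Chk

set_option autoImplicit false
set_option maxRecDepth 100000000
set_option Elab.async false
noncomputable section

namespace Cfsg.Agent.Spor.ThLA1

def n0 : Net := Net.nil

def n1 : Net := Net.nil

def n2 : Net := Net.nil

def n3 : Net := Net.nil

def n4 : Net := Net.nil

def n5 : Net := Net.nil

def ip1 : List Nat := []
def l1 : Let := ⟨0, false, 0x1, 0x0, [0x0]⟩

def ip2 : List Nat := []
def l2 : Let := ⟨1, false, 0x1, 0x0, [0x0]⟩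

def ip3 : List Nat := []
def l3 : Let := ⟨2, false, 0x1, 0x0, [0x0]⟩

def ip4 : List Nat := []
def l4 : Let := ⟨3, false, 0x1, 0x0, [0x0]⟩

def ip5 : List Nat := []
def l5 : Let := ⟨4, false, 0x1, 0x0, [0x0]⟩

def ip6 : List Nat := []
def l6 : Let := ⟨5, false, 0x1, 0x0, [0x0]⟩

def ip7 : List Nat := [0x1]
def l7 : Let := ⟨0, true, 0x1, 0x0, [0x1]⟩

def ip8 : List Nat := [0x1]
def l8 : Let := ⟨1, true, 0x1, 0x0, [0x1]⟩

def ip9 : List Nat := [0x1]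
def l9 : Let := ⟨2, true, 0x1, 0x0, [0x1]⟩

def ip10 : List Nat := [0x1]
def l10 : Let := ⟨3, true, 0x1, 0x0, [0x1]⟩

def ip11 : List Nat := [0x1]
def l11 : Let := ⟨4, true, 0x1, 0x0, [0x1]⟩

def ip12 : List Nat := [0x1]
def l12 : Let := ⟨5, true, 0x1, 0x0, [0x1]⟩

def F : Nat := nat_lit 0x600000000000000010000100c0000000010040001000000050000000000000000f0000f040000f00000050000f00000040000000000000000a0000a0c0000a000000c000000000a000000c00000000000e000000c0000e00000060000e0000c040000e000000b0000a00000050000a0000a000000d00000000000b00000050000d000000b0000d0000a050000b00000040000a000000300000000000000009000090200009000000300009000000200000000000000008000080100008000000200008000000100000000000000001000040000007000070900004000070300004000000400007000000a000070000109000000000103000000000000000030000100000060000608000030000009000060000301000060000008000010000002000010000100000050000000000020000002000050000008000050000104000040000103000030000102000020000001000010001006000000000f05000000000e040000c0000d040000b0000c060000a0000b050000a0000a0400000000090300000000080200000000070100004000060100003000050100002000040400001000030300001000020200001000010100000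

def rt0_11 : RTree := RTree.node 0x309 ⟨[3, 9], [], 35, false⟩ (RTree.node 0x202 ⟨[2, 2], [], 1, true⟩ (RTree.node 0x107 ⟨[1, 7], [], 35, false⟩ (RTree.node 0x101 ⟨[1, 1], [], 0, true⟩ (RTree.leaf) (RTree.leaf)) (RTree.leaf)) (RTree.node 0x303 ⟨[3, 3], [], 2, true⟩ (RTree.node 0x208 ⟨[2, 8], [], 35, false⟩ (RTree.leaf) (RTree.leaf)) (RTree.leaf))) (RTree.node 0x505 ⟨[5, 5], [], 4, true⟩ (RTree.node 0x40a ⟨[4, 10], [], 35, false⟩ (RTree.node 0x404 ⟨[4, 4], [], 3, true⟩ (RTree.leaf) (RTree.leaf)) (RTree.leaf)) (RTree.node 0x60c ⟨[6, 12], [], 35, false⟩ (RTree.node 0x50b ⟨[5, 11], [], 35, false⟩ (RTree.leaf) (RTree.leaf)) (RTree.leaf)))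
def rt12_22 : RTree := RTree.node 0x1080702 ⟨[1, 8, 7, 2], [0], 20, true⟩ (RTree.node 0xa04 ⟨[10, 4], [], 35, false⟩ (RTree.node 0x903 ⟨[9, 3], [], 35, false⟩ (RTree.node 0x802 ⟨[8, 2], [], 35, false⟩ (RTree.leaf) (RTree.leaf)) (RTree.leaf)) (RTree.node 0xc06 ⟨[12, 6], [], 35, false⟩ (RTree.node 0xb05 ⟨[11, 5], [], 35, false⟩ (RTree.leaf) (RTree.leaf)) (RTree.leaf))) (RTree.node 0x30a0904 ⟨[3, 10, 9, 4], [4], 29, true⟩ (RTree.node 0x2090803 ⟨[2, 9, 8, 3], [2], 25, true⟩ (RTree.node 0x2070801 ⟨[2, 7, 8, 1], [2], 20, false⟩ (RTree.leaf) (RTree.leaf)) (RTree.leaf)) (RTree.node 0x4070a01 ⟨[4, 7, 10, 1], [6], 22, false⟩ (RTree.leaf) (RTree.leaf)))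
def rt0_22 : RTree := RTree.node 0x701 ⟨[7, 1], [], 35, false⟩ (rt0_11) (rt12_22)
def rt23_33 : RTree := RTree.node 0x9070301 ⟨[9, 7, 3, 1], [], 21, true⟩ (RTree.node 0x6040604 ⟨[6, 4, 6, 4], [10], 18, true⟩ (RTree.node 0x50a0b04 ⟨[5, 10, 11, 4], [8], 32, false⟩ (RTree.node 0x40c0a06 ⟨[4, 12, 10, 6], [6], 33, true⟩ (RTree.leaf) (RTree.leaf)) (RTree.leaf)) (RTree.node 0x8090203 ⟨[8, 9, 2, 3], [], 25, false⟩ (RTree.node 0x8070201 ⟨[8, 7, 2, 1], [], 20, true⟩ (RTree.leaf) (RTree.leaf)) (RTree.leaf))) (RTree.node 0xb0a0504 ⟨[11, 10, 5, 4], [], 32, true⟩ (RTree.node 0xa070401 ⟨[10, 7, 4, 1], [], 22, true⟩ (RTree.node 0x90a0304 ⟨[9, 10, 3, 4], [], 29, false⟩ (RTree.leaf) (RTree.leaf)) (RTree.leaf)) (RTree.node 0xc0a0604 ⟨[12, 10, 6, 4], [], 33, true⟩ (RTree.leaf) (RTree.leaf)))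
def rt34_44 : RTree := RTree.node 0xb0a0b0a0b0a ⟨[11, 10, 11, 10, 11, 10], [9], 12, false⟩ (RTree.node 0x30203020302 ⟨[3, 2, 3, 2, 3, 2], [], 7, true⟩ (RTree.node 0x20302030203 ⟨[2, 3, 2, 3, 2, 3], [2], 7, true⟩ (RTree.node 0x20102010201 ⟨[2, 1, 2, 1, 2, 1], [], 5, true⟩ (RTree.leaf) (RTree.leaf)) (RTree.leaf)) (RTree.node 0x80708070807 ⟨[8, 7, 8, 7, 8, 7], [3], 5, false⟩ (RTree.node 0x50405040504 ⟨[5, 4, 5, 4, 5, 4], [], 12, true⟩ (RTree.leaf) (RTree.leaf)) (RTree.leaf))) (RTree.node 0x30704030403040304 ⟨[3, 7, 4, 3, 4, 3, 4, 3, 4], [4], 10, false⟩ (RTree.node 0xc0c0c0c0c0c0c ⟨[12, 12, 12, 12, 12, 12, 12], [], 14, false⟩ (RTree.node 0x6060606060606 ⟨[6, 6, 6, 6, 6, 6, 6], [], 14, true⟩ (RTree.leaf) (RTree.leaf)) (RTree.leaf)) (RTree.node 0xc0c050c0b0606060b ⟨[12, 12, 5, 12, 11, 6, 6, 6, 11], [11, 11, 11, 8], 19, true⟩ (RTree.leaf) (RTree.leaf)))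
def rt23_44 : RTree := RTree.node 0xc0a0c0a ⟨[12, 10, 12, 10], [], 18, false⟩ (rt23_33) (rt34_44)
def rt0_44 : RTree := RTree.node 0x40b0a05 ⟨[4, 11, 10, 5], [6], 32, true⟩ (rt0_22) (rt23_44)
def RT : RTree := rt0_44

def NT : List Net := [n0, n1, n2, n3, n4, n5]
def LT : List Let := [⟨0, false, 0, 0, []⟩, l1, l2, l3, l4, l5, l6, l7, l8, l9, l10, l11, l12]
def T : Tab := ⟨NT, LT⟩
def EX : List (List Nat) := [[], [0], [2], [4], [6], [8], [10], [1], [3], [5], [7], [9], [11]]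
def RL : List (List Nat) := [[0, 0], [2, 2], [4, 4], [6, 6], [8, 8], [0, 2, 0, 2, 0, 2], [0, 8, 0, 8], [2, 4, 2, 4, 2, 4], [2, 6, 2, 6], [2, 8, 2, 8], [0, 7, 5, 7, 5, 7, 5, 7, 5], [4, 8, 4, 8], [6, 8, 6, 8, 6, 8], [2, 4, 6, 8, 2, 4, 6, 8, 2, 4, 6, 8, 2, 4, 6, 8, 2, 4, 6, 8, 2, 4, 6, 8, 2, 4, 6, 8, 2, 4, 6, 8], [10, 10, 10, 10, 10, 10, 10], [11, 1, 10, 0], [11, 3, 10, 2], [11, 5, 10, 4], [10, 6, 10, 6], [9, 11, 8, 11, 11, 9, 10, 10, 10], [0, 2, 1, 3], [0, 4, 1, 5], [0, 6, 1, 7], [0, 8, 1, 9], [0, 10, 1, 11], [2, 4, 3, 5], [2, 6, 3, 7], [2, 8, 3, 9], [2, 10, 3, 11], [4, 6, 5, 7], [4, 8, 5, 9], [4, 10, 5, 11], [6, 8, 7, 9], [6, 10, 7, 11], [8, 10, 9, 11]]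
def XL : List (List Nat) := []
def BW : List (List Nat) := []
def IV : Nat := 0x605040302010c0b0a09080700
def L : List Nat := [1, 2, 3, 4, 5, 6, 7, 8, 9, 10, 11, 12]
def gs : List Nat := [1, 2, 3, 4, 5, 6]
def base : List Nat := []

end Cfsg.Agent.Spor.ThLA1
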